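import Mathlib
import Cfsg.Agent.Lib.InvChar.SylowIn

/-!
# Doubly transitive groups of degree `p ^ 2 + 1`, I

Blocks of a point stabiliser, the design argument, and the Sylow `p`-subgroup of a point
stabiliser.
-/

set_option autoImplicit false
set_option linter.unusedSectionVars false

namespace H24.Sq

open MulAction

variable {G Ω : Type*} [Group G] [MulAction G Ω]

/-- Double transitivity. -/
def T2 (G Ω : Type*) [Group G] [MulAction G Ω] : Prop :=
  ∀ a b c d : Ω, a ≠ b → c ≠ d → ∃ g : G, g • a = c ∧ g • b = d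

/-- `B` avoids `a` and is a block for the stabiliser of `a`. -/
structure BC (G : Type*) {Ω : Type*} [Group G] [MulAction G Ω] (a : Ω) (B : Set Ω) : Prop where
  nm : a ∉ B
  bl : ∀ g : G, g • a = a → ∀ u ∈ B, g • u ∈ B → ∀ v ∈ B, g • v ∈ B

/-- The image of a set. -/
def im (g : G) (B : Set Ω) : Set Ω := {w | g⁻¹ • w ∈ B}

theorem mem_im {g : G} {B : Set Ω} {w : Ω} : w ∈ im g B ↔ g⁻¹ • w ∈ B := Iff.rfl

theorem smul_mem_im {g : G} {B : Set Ω} {w : Ω} : g • w ∈ im g B ↔ w ∈ B := by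
  rw [mem_im, inv_smul_smul]

theorem ncard_im (g : G) (B : Set Ω) : (im g B).ncard = B.ncard := by
  have : im g B = (fun w => g • w) '' B := by
    ext w
    constructor
    · intro h
      exact ⟨g⁻¹ • w, h, smul_inv_smul g w⟩
    · rintro ⟨u, hu, rfl⟩
      exact smul_mem_im.2 hu
  rw [this, Set.ncard_image_of_injective _ (MulAction.injective g)]

theorem BC.im {a : Ω} {B : Set Ω} (h : BC G a B) (g : G) : BC G (g • a) (im g B) where
  nm := fun h' => h.nm (smul_mem_im.1 h')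
  bl := by
    intro k hk u hu hku v hv
    have h1 : (g⁻¹ * k * g) • a = a := by rw [mul_smul, mul_smul, hk, inv_smul_smul]
    have := h.bl _ h1 _ hu (by rw [mul_smul, mul_smul, smul_inv_smul]; exact hku) _ hv
    rw [mul_smul, mul_smul, smul_inv_smul] at this
    exact this

theorem BC.ne {a : Ω} {B : Set Ω} (h : BC G a B) {u : Ω} (hu : u ∈ B) : u ≠ a :=
  fun e => h.nm (e ▸ hu)

section Design

variable [Finite Ω]

/-- The design argument: a point together with a block of size `p` is not also another point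
together with a block of its stabiliser. -/
theorem design {p : ℕ} (hp : 2 ≤ p) (hΩ : Nat.card Ω = p ^ 2 + 1) (h2 : T2 G Ω) {a b : Ω}
    {B C : Set Ω} (hB : BC G a B) (hC : BC G b C) (hBc : B.ncard = p) (hCc : C.ncard = p)
    (hab : a ≠ b) (he : insert a B = insert b C) : False := by
  classical
  set L := insert a B with hL
  have haC : a ∈ C := by
    have : a ∈ insert b C := he ▸ Set.mem_insert a B
    exact this.resolve_left hab
  have hbB : b ∈ B := by
    have : b ∈ L := he ▸ Set.mem_insert b C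
    exact this.resolve_left hab.symm
  -- elements preserving `L`
  let T : G → Prop := fun g => ∀ u ∈ L, g • u ∈ L
  have hTmul : ∀ g k, T g → T k → T (g * k) := fun g k hg hk u hu => by
    rw [mul_smul]; exact hg _ (hk _ hu)
  have hTinv : ∀ g, T g → T g⁻¹ := by
    intro g hg u hu
    have hbij := (Set.Finite.injOn_iff_bijOn_of_mapsTo (Set.toFinite L) (f := fun w => g • w) hg).1
      (MulAction.injective g).injOn
    obtain ⟨w, hw, rfl⟩ := hbij.surjOn hu
    simpa using hw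
  have hTM : ∀ g : G, g • a = a → g • b ∈ B → T g := by
    intro g hg hgb u hu
    rcases hu with rfl | hu
    · rw [hg]; exact Set.mem_insert _ _
    · exact Set.mem_insert_of_mem _ (hB.bl g hg b hbB hgb u hu)
  obtain ⟨a', ha'C, ha'⟩ : ∃ a' ∈ C, a' ≠ a := Set.exists_ne_of_one_lt_ncard (by omega) a
  obtain ⟨g0, hg0b, hg0a⟩ := h2 b a b a' hab.symm (hC.ne ha'C).symm
  have hTg0 : T g0 := by
    intro u hu
    rw [he] at hu ⊢
    rcases hu with rfl | hu
    · rw [hg0b]; exact Set.mem_insert _ _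
    · exact Set.mem_insert_of_mem _ (hC.bl g0 hg0b a haC (hg0a ▸ ha'C) u hu)
  have ha'B : a' ∈ B := by
    have : a' ∈ L := he ▸ Set.mem_insert_of_mem b ha'C
    exact this.resolve_left ha'
  have hT1 : ∀ u ∈ L, ∃ g, T g ∧ g • a = u := by
    intro u hu
    rcases hu with rfl | hu
    · exact ⟨1, fun u hu => by simpa using hu, one_smul _ _⟩
    · obtain ⟨m, hm1, hm2⟩ := h2 a a' a u ha'.symm (hB.ne hu).symm
      refine ⟨m * g0, hTmul _ _ (hTM m hm1 (hB.bl m hm1 a' ha'B (hm2 ▸ hu) b hbB)) hTg0, ?_⟩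
      rw [mul_smul, hg0a, hm2]
  have hT2 : ∀ u ∈ L, ∀ v ∈ L, u ≠ v → ∃ g, T g ∧ g • a = u ∧ g • b = v := by
    intro u hu v hv huv
    obtain ⟨g, hg, hga⟩ := hT1 u hu
    have hv' : g⁻¹ • v ≠ a := fun e => huv (by rw [← hga, ← e, smul_inv_smul])
    have hvB : g⁻¹ • v ∈ B := (hTinv g hg v hv).resolve_left hv'
    obtain ⟨m, hm1, hm2⟩ := h2 a b a (g⁻¹ • v) hab hv'.symm
    refine ⟨g * m, hTmul _ _ hg (hTM m hm1 (hm2 ▸ hvB)), ?_, ?_⟩
    · rw [mul_smul, hm1, hga]
    · rw [mul_smul, hm2, smul_inv_smul]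
  have hT3 : ∀ g : G, ∀ u ∈ L, ∀ v ∈ L, u ≠ v → g • u ∈ L → g • v ∈ L → T g := by
    intro g u hu v hv huv hgu hgv
    obtain ⟨s, hs, hsa, hsb⟩ := hT2 u hu v hv huv
    obtain ⟨t, ht, hta, htb⟩ := hT2 _ hgu _ hgv (fun e => huv (MulAction.injective g e))
    have h1 : T (t⁻¹ * g * s) := by
      apply hTM
      · rw [mul_smul, mul_smul, hsa, ← hta, inv_smul_smul]
      · rw [mul_smul, mul_smul, hsb, ← htb, inv_smul_smul]; exact hbB
    have := hTmul _ _ (hTmul _ _ ht h1) (hTinv _ hs)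
    simpa [mul_assoc] using this
  have hLc : L.ncard = p + 1 := by rw [hL, Set.ncard_insert_of_notMem hB.nm, hBc]
  obtain ⟨c, hc⟩ : ∃ c, c ∉ L := by
    by_contra hcon
    push Not at hcon
    have : L = Set.univ := Set.eq_univ_of_forall hcon
    rw [this, Set.ncard_univ, hΩ] at hLc
    nlinarith
  have hex : ∀ y : L, ∃ g : G, g • a = c ∧ g • b = y := fun y =>
    h2 a b c y hab (fun e => hc (e ▸ y.2))
  choose γ hγa hγb using hex
  let f : L × B → ({c}ᶜ : Set Ω) := fun q => ⟨γ q.1 • (q.2 : Ω), fun e => by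
    have e' : γ q.1 • (q.2 : Ω) = γ q.1 • a := by rw [hγa]; exact e
    exact hB.ne q.2.2 (MulAction.injective _ e')⟩
  have hf : Function.Injective f := by
    rintro ⟨y, w⟩ ⟨z, w'⟩ e
    have e' : γ y • (w : Ω) = γ z • (w' : Ω) := congrArg Subtype.val e
    have hyz : y = z := by
      by_contra hne
      have h1 : ((γ z)⁻¹ * γ y) • a = a := by rw [mul_smul, hγa, ← hγa z, inv_smul_smul]
      have h3 := hB.bl _ h1 w w.2 (by rw [mul_smul, e', inv_smul_smul]; exact w'.2) b hbB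
      rw [mul_smul, hγb] at h3
      have h4 : (γ z)⁻¹ • (z : Ω) ∈ B := by rw [← hγb z, inv_smul_smul]; exact hbB
      have h5 := hT3 (γ z)⁻¹ y y.2 z z.2 (fun e => hne (Subtype.ext e))
        (Set.mem_insert_of_mem _ h3) (Set.mem_insert_of_mem _ h4)
      have h6 := hTinv _ h5 a (Set.mem_insert _ _)
      rw [inv_inv, hγa] at h6
      exact hc h6
    subst hyz
    exact Prod.ext rfl (Subtype.ext (MulAction.injective _ e'))
  have := Nat.card_le_card_of_injective f hf
  rw [Nat.card_prod, Nat.card_coe_set_eq, Nat.card_coe_set_eq, Nat.card_coe_set_eq, hLc, hBc] at this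
  have h7 := Set.ncard_add_ncard_compl ({c} : Set Ω)
  rw [Set.ncard_singleton, hΩ] at h7
  nlinarith

end Design

section Syl

variable [Finite G] [Finite Ω] {p : ℕ} [hp : Fact p.Prime]

theorem ncard_orbit (Q : Subgroup G) (b : Ω) :
    (orbit Q b).ncard * Nat.card ↥(Q ⊓ stabilizer G b) = Nat.card Q := by
  have h1 := Subgroup.card_mul_index (stabilizer Q b)
  rw [MulAction.index_stabilizer] at h1
  have h2 : Nat.card (stabilizer Q b) = Nat.card ↥(Q ⊓ stabilizer G b) := by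
    have : stabilizer Q b = (Q ⊓ stabilizer G b).subgroupOf Q := by
      ext x
      simp [Subgroup.mem_subgroupOf, MulAction.mem_stabilizer_iff, Subgroup.smul_def]
    rw [this]
    exact Nat.card_congr (Subgroup.subgroupOfEquivOfLe inf_le_left).toEquiv
  rw [← h1, h2, mul_comm]

theorem relIndex_mul_card {A H : Subgroup G} (h : A ≤ H) :
    A.relIndex H * Nat.card A = Nat.card H := by
  rw [← Subgroup.relIndex_bot_left, ← Subgroup.relIndex_bot_left, mul_comm,
    Subgroup.relIndex_mul_relIndex ⊥ A H bot_le h]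

theorem mem_orbit {Q : Subgroup G} {b w : Ω} : w ∈ orbit Q b ↔ ∃ g ∈ Q, g • b = w := by
  constructor
  · rintro ⟨g, rfl⟩
    exact ⟨g, g.2, rfl⟩
  · rintro ⟨g, hg, rfl⟩
    exact ⟨⟨g, hg⟩, rfl⟩

theorem ncard_orbit_pgroup {Q : Subgroup G} (hQ : IsPGroup p Q) (b : Ω) :
    ∃ n, (orbit Q b).ncard = p ^ n := by
  obtain ⟨n, hn⟩ := hQ.card_orbit b
  exact ⟨n, by rw [← Nat.card_coe_set_eq, hn]⟩

theorem ncard_compl (hΩ : Nat.card Ω = p ^ 2 + 1) (a : Ω) : ({a}ᶜ : Set Ω).ncard = p ^ 2 := by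
  have h7 := Set.ncard_add_ncard_compl ({a} : Set Ω)
  rw [Set.ncard_singleton, hΩ] at h7
  omega

theorem three_cases {n k : ℕ} (hk : k = p ^ n) (hle : k ≤ p ^ 2) :
    k = 1 ∨ k = p ∨ k = p ^ 2 := by
  have h1 : n ≤ 2 := by
    rw [hk] at hle
    exact (Nat.pow_le_pow_iff_right hp.out.one_lt).1 hle
  interval_cases n <;> simp [hk]

/-- A `p`-subgroup of the stabiliser of `a` transitive on the other points. -/
structure RT (p : ℕ) (a : Ω) (R : Subgroup G) : Prop where
  pg : IsPGroup p R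
  fx : ∀ r ∈ R, r • a = a
  tr : ∀ u v : Ω, u ≠ a → v ≠ a → ∃ r ∈ R, r • u = v

theorem RT.ne {a : Ω} {R : Subgroup G} (hR : RT p a R) {r : G} (hr : r ∈ R) {u : Ω} (hu : u ≠ a) :
    r • u ≠ a := fun e => hu (MulAction.injective r (e.trans (hR.fx r hr).symm))

/-- The stabiliser in `R` of a block. -/
def stB {a : Ω} {B : Set Ω} (hB : BC G a B) (R : Subgroup G) (hR : ∀ r ∈ R, r • a = a) {b : Ω}
    (hb : b ∈ B) : Subgroup G where
  carrier := {r | r ∈ R ∧ r • b ∈ B}
  one_mem' := ⟨R.one_mem, by simpa using hb⟩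
  mul_mem' := by
    rintro x y ⟨hx, hx'⟩ ⟨hy, hy'⟩
    exact ⟨R.mul_mem hx hy, by rw [mul_smul]; exact hB.bl x (hR x hx) b hb hx' _ hy'⟩
  inv_mem' := by
    rintro x ⟨hx, hx'⟩
    exact ⟨R.inv_mem hx, hB.bl x⁻¹ (hR _ (R.inv_mem hx)) _ hx' (by simpa using hb) b hb⟩

theorem orbit_stB {a : Ω} {B : Set Ω} (hB : BC G a B) {R : Subgroup G} (hR : RT p a R) {b : Ω}
    (hb : b ∈ B) : orbit (stB hB R hR.fx hb) b = B := by
  ext w
  rw [mem_orbit]
  constructor
  · rintro ⟨g, hg, rfl⟩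
    exact hg.2
  · intro hw
    obtain ⟨r, hr, rfl⟩ := hR.tr b w (hB.ne hb) (hB.ne hw)
    exact ⟨r, ⟨hr, hw⟩, rfl⟩

theorem BC.card (hΩ : Nat.card Ω = p ^ 2 + 1) {a : Ω} {B : Set Ω} (hB : BC G a B) {R : Subgroup G}
    (hR : RT p a R) {b : Ω} (hb : b ∈ B) : B.ncard = 1 ∨ B.ncard = p ∨ B = {a}ᶜ := by
  have hQ : IsPGroup p (stB hB R hR.fx hb) := hR.pg.to_le (fun x hx => hx.1)
  obtain ⟨n, hn⟩ := ncard_orbit_pgroup hQ b
  rw [orbit_stB hB hR hb] at hn
  have hsub : B ⊆ {a}ᶜ := fun u hu => hB.ne hu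
  have hle := Set.ncard_le_ncard hsub
  rw [ncard_compl hΩ] at hle
  rcases three_cases hn hle with h | h | h
  · exact Or.inl h
  · exact Or.inr (Or.inl h)
  · exact Or.inr (Or.inr (Set.eq_of_subset_of_ncard_le hsub (by rw [h, ncard_compl hΩ])))

theorem orbit_stab (h2 : T2 G Ω) {a b : Ω} (hab : b ≠ a) :
    orbit (stabilizer G a) b = {a}ᶜ := by
  ext w
  rw [mem_orbit]
  constructor
  · rintro ⟨g, hg, rfl⟩ e
    exact hab (MulAction.injective g (e.trans (mem_stabilizer_iff.1 hg).symm))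
  · intro hw
    obtain ⟨g, h1, h3⟩ := h2 a b a w hab.symm (fun e => hw e.symm)
    exact ⟨g, h1, h3⟩

theorem exists_RT (hΩ : Nat.card Ω = p ^ 2 + 1) (h2 : T2 G Ω) (a : Ω) :
    ∃ R : Subgroup G, RT p a R ∧ ∀ b, b ≠ a →
      ¬ p ∣ (R ⊓ stabilizer G b).relIndex (stabilizer G a ⊓ stabilizer G b) := by
  obtain ⟨R, hR, -, hRS, hnd⟩ := H72.exists_sylowIn_ge (p := p) (T := ⊥) (H := stabilizer G a)
    IsPGroup.of_bot bot_le
  have key : ∀ b, b ≠ a → orbit R b = {a}ᶜ ∧
      ¬ p ∣ (R ⊓ stabilizer G b).relIndex (stabilizer G a ⊓ stabilizer G b) := by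
    intro b hb
    have e1 := ncard_orbit R b
    have e2 := ncard_orbit (stabilizer G a) b
    rw [orbit_stab h2 hb, ncard_compl hΩ] at e2
    have hle : R ⊓ stabilizer G b ≤ stabilizer G a ⊓ stabilizer G b := inf_le_inf_right _ hRS
    have e3 := relIndex_mul_card hRS
    have e4 := relIndex_mul_card hle
    obtain ⟨n, hn⟩ := ncard_orbit_pgroup hR b
    have hsub : orbit R b ⊆ {a}ᶜ := by
      rw [← orbit_stab h2 hb]
      intro w hw
      obtain ⟨g, hg, rfl⟩ := mem_orbit.1 hw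
      exact mem_orbit.2 ⟨g, hRS hg, rfl⟩
    have hle2 := Set.ncard_le_ncard hsub
    rw [ncard_compl hΩ] at hle2
    have hpos : 0 < Nat.card ↥(R ⊓ stabilizer G b) := Nat.card_pos
    have e5 : R.relIndex (stabilizer G a) * (orbit R b).ncard =
        p ^ 2 * (R ⊓ stabilizer G b).relIndex (stabilizer G a ⊓ stabilizer G b) := by
      apply Nat.eq_of_mul_eq_mul_right hpos
      rw [mul_assoc, e1, e3, mul_assoc, e4, e2]
    have hd : p ^ 2 ∣ (orbit R b).ncard := by
      have hc : Nat.Coprime (p ^ 2) (R.relIndex (stabilizer G a)) :=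
        Nat.Coprime.pow_left _ ((Nat.Prime.coprime_iff_not_dvd hp.out).2 hnd)
      exact hc.dvd_of_dvd_mul_left (e5 ▸ Dvd.intro _ rfl)
    have hpos2 : 0 < (orbit R b).ncard := by rw [hn]; exact pow_pos hp.out.pos _
    have e6 : (orbit R b).ncard = p ^ 2 := le_antisymm hle2 (Nat.le_of_dvd hpos2 hd)
    refine ⟨Set.eq_of_subset_of_ncard_le hsub (by rw [e6, ncard_compl hΩ]), ?_⟩
    rw [e6, mul_comm] at e5
    rw [← Nat.eq_of_mul_eq_mul_left (pow_pos hp.out.pos 2) e5]
    exact hnd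
  refine ⟨R, ⟨hR, fun r hr => hRS hr, fun u v hu hv => ?_⟩, fun b hb => (key b hb).2⟩
  have : v ∈ orbit R u := by rw [(key u hu).1]; exact hv
  exact mem_orbit.1 this

variable [FaithfulSMul G Ω]

theorem eq_one_of_fix {a : Ω} {g : G} (ha : g • a = a) (h : ∀ w, w ≠ a → g • w = w) : g = 1 := by
  apply FaithfulSMul.eq_of_smul_eq_smul (α := Ω)
  intro w
  by_cases hw : w = a
  · rw [hw, ha, one_smul]
  · rw [h w hw, one_smul]

theorem stab_eq_bot (hΩ : Nat.card Ω = p ^ 2 + 1) (h2 : T2 G Ω) {a b : Ω} {B : Set Ω}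
    (hB : BC G a B) (hBc : B.ncard = p) (hb : b ∈ B) {R : Subgroup G} (hR : RT p a R)
    (hS : ¬ p ∣ (R ⊓ stabilizer G b).relIndex (stabilizer G a ⊓ stabilizer G b)) :
    R ⊓ stabilizer G b = ⊥ := by
  by_contra hne
  set P := R ⊓ stabilizer G b with hP
  have hPp : IsPGroup p P := hR.pg.to_le inf_le_left
  have hba := hB.ne hb
  let F : Set Ω := {w | w ≠ a ∧ ∀ g ∈ P, g • w = w}
  have hBF : B ⊆ F := by
    intro u hu
    refine ⟨hB.ne hu, fun g hg => ?_⟩
    by_cases hub : u = b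
    · rw [hub]; exact hg.2
    obtain ⟨n, hn⟩ := ncard_orbit_pgroup hPp u
    have hsub : orbit P u ⊆ B \ {b} := by
      intro w hw
      obtain ⟨k, hk, rfl⟩ := mem_orbit.1 hw
      have hkb : k • b = b := hk.2
      exact ⟨hB.bl k (hR.fx k hk.1) b hb (by rw [hkb]; exact hb) u hu,
        fun e => hub (MulAction.injective k (e.trans hkb.symm))⟩
    have hle := Set.ncard_le_ncard hsub
    have h1 := Set.ncard_sdiff_singleton_add_one hb
    have hn0 : n = 0 := by
      by_contra hn0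
      have : p ≤ p ^ n := Nat.le_self_pow hn0 p
      omega
    rw [hn0, pow_zero, Set.ncard_eq_one] at hn
    obtain ⟨x, hx⟩ := hn
    have h3 : g • u ∈ orbit P u := mem_orbit.2 ⟨g, hg, rfl⟩
    have h4 : u ∈ orbit P u := mem_orbit_self u
    rw [hx] at h3 h4
    exact h3.trans h4.symm
  let N := R ⊓ Subgroup.normalizer (P : Set G)
  have hNF : orbit N b = F := by
    ext w
    rw [mem_orbit]
    constructor
    · rintro ⟨x, hx, rfl⟩
      refine ⟨hR.ne hx.1 hba, fun g hg => ?_⟩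
      have : (x⁻¹ * g * x) • b = b := (H72.inv_conj_mem_of_mem_normalizer hx.2 hg).2
      rw [mul_smul, mul_smul, inv_smul_eq_iff] at this
      exact this
    · rintro ⟨hw, hw'⟩
      obtain ⟨x, hx, rfl⟩ := hR.tr b w hba hw
      refine ⟨x, ⟨hx, (Subgroup.inv_mem_iff _).1 ?_⟩, rfl⟩
      apply H72.mem_normalizer_of_conj_mem
      intro k hk
      refine ⟨R.mul_mem (R.mul_mem (R.inv_mem hx) hk.1) (R.inv_mem (R.inv_mem hx)), ?_⟩
      show (x⁻¹ * k * x⁻¹⁻¹) • b = b
      rw [inv_inv, mul_smul, mul_smul, hw' k hk, inv_smul_smul]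
  obtain ⟨n, hn⟩ := ncard_orbit_pgroup (hR.pg.to_le (inf_le_left : N ≤ R)) b
  rw [hNF] at hn
  have hsub : F ⊆ {a}ᶜ := fun u hu => hu.1
  have hle := Set.ncard_le_ncard hsub
  have hle' := Set.ncard_le_ncard hBF
  rw [ncard_compl hΩ] at hle
  have hp2 := hp.out.two_le
  have hFB : B = F := by
    rcases three_cases hn hle with h | h | h
    · omega
    · exact Set.eq_of_subset_of_ncard_le hBF (by omega)
    · exfalso
      have hF : F = {a}ᶜ := Set.eq_of_subset_of_ncard_le hsub (by rw [h, ncard_compl hΩ])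
      apply hne
      rw [eq_bot_iff]
      intro g hg
      refine eq_one_of_fix (hR.fx g hg.1) (fun w hw => ?_)
      have : w ∈ F := by rw [hF]; exact hw
      exact this.2 g hg
  obtain ⟨t, hta, htb⟩ := h2 a b b a hba.symm hba
  have hPH : P ≤ stabilizer G a ⊓ stabilizer G b := fun g hg => ⟨hR.fx g hg.1, hg.2⟩
  obtain ⟨h, hh, hc⟩ := H72.exists_conj_mem_sylowIn hPp hPH hS (H72.isPGroup_map_conj hPp t) (by
    intro y hy
    have hy' := hPH (H72.mem_map_conj.1 hy)
    have h1 : (t⁻¹ * y * t) • a = a := hy'.1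
    have h3 : (t⁻¹ * y * t) • b = b := hy'.2
    rw [mul_smul, mul_smul, inv_smul_eq_iff] at h1 h3
    rw [hta] at h1
    rw [htb] at h3
    exact ⟨h3, h1⟩)
  have hga : (h * t) • a = b := by rw [mul_smul, hta]; exact hh.2
  have hN : h * t ∈ Subgroup.normalizer (P : Set G) := by
    apply H72.mem_normalizer_of_conj_mem
    intro k hk
    have := hc _ (H72.conj_mem_map_conj (g := t) hk)
    simpa [mul_assoc] using this
  have hB' := hB.im (h * t)
  rw [hga] at hB'
  refine design hp2 hΩ h2 hB hB' hBc ((ncard_im _ _).trans hBc) hba.symm ?_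
  have hfix : ∀ w, w ∈ insert a B ↔ ∀ g ∈ P, g • w = w := by
    intro w
    constructor
    · rintro (rfl | hw)
      · exact fun g hg => hR.fx g hg.1
      · exact (hBF hw).2
    · intro hw
      by_cases e : w = a
      · exact Or.inl e
      · right; rw [hFB]; exact ⟨e, hw⟩
  ext w
  have : w ∈ insert b (im (h * t) B) ↔ (h * t)⁻¹ • w ∈ insert a B := by
    rw [Set.mem_insert_iff, Set.mem_insert_iff, mem_im, inv_smul_eq_iff, hga]
  rw [this, hfix, hfix]
  constructor
  · intro hw g hg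
    have := hw _ (H72.conj_mem_of_mem_normalizer hN hg)
    rw [mul_smul, mul_smul] at this
    exact (eq_inv_smul_iff.2 this)
  · intro hw g hg
    have := hw _ (H72.inv_conj_mem_of_mem_normalizer hN hg)
    rw [mul_smul, mul_smul, smul_inv_smul] at this
    exact MulAction.injective _ this

/-- The standing situation: `R` is abelian of order `p ^ 2`, regular on the points other than `a`,
and two-point stabilisers have order prime to `p`. -/
structure St (p : ℕ) (a : Ω) (R : Subgroup G) : Prop extends RT p a R where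
  cd : Nat.card R = p ^ 2
  cm : ∀ x ∈ R, ∀ y ∈ R, x * y = y * x
  pp : ∀ b, b ≠ a → ¬ p ∣ Nat.card ↥(stabilizer G a ⊓ stabilizer G b)

theorem exists_St (hΩ : Nat.card Ω = p ^ 2 + 1) (h2 : T2 G Ω) {a b : Ω} {B : Set Ω}
    (hB : BC G a B) (hBc : B.ncard = p) (hb : b ∈ B) : ∃ R : Subgroup G, St p a R := by
  obtain ⟨R, hR, hS⟩ := exists_RT hΩ h2 a
  have key : ∀ u, u ≠ a → R ⊓ stabilizer G u = ⊥ := by
    intro u hu
    obtain ⟨s, hsa, hsb⟩ := h2 a b a u (hB.ne hb).symm hu.symm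
    have hB' := hB.im s
    rw [hsa] at hB'
    exact stab_eq_bot hΩ h2 hB' ((ncard_im _ _).trans hBc) (hsb ▸ smul_mem_im.2 hb) hR (hS u hu)
  have hba := hB.ne hb
  have hcd : Nat.card R = p ^ 2 := by
    have e1 := ncard_orbit R b
    have : orbit R b = {a}ᶜ := by
      ext w
      rw [mem_orbit]
      exact ⟨fun ⟨g, hg, e⟩ => e ▸ hR.ne hg hba, fun hw => hR.tr b w hba hw⟩
    rw [key b hba, this, ncard_compl hΩ] at e1
    simpa using e1.symm
  refine ⟨R, hR, hcd, fun x hx y hy => ?_, fun u hu => ?_⟩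
  · have := IsPGroup.isMulCommutative_of_card_eq_prime_sq hcd
    exact congrArg Subtype.val (mul_comm' (⟨x, hx⟩ : R) ⟨y, hy⟩)
  · have := hS u hu
    rwa [key u hu, Subgroup.relIndex_bot_left] at this

end Syl

end H24.Sq
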